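import Groth.Prelude.Def_AlgSpMor5
import Groth.Agent.SpPts86.DecentLift
import Groth.Agent.SpPts86.UnivTop
import Groth.Agent.FlatMor66.GeomPts
import Groth.Agent.Ram24.Dominated

/-!
Lifts of valuative squares along universally closed decent morphisms of algebraic spaces, after a
finite separable extension.
-/

universe u

set_option autoImplicit false
set_option backward.isDefEq.respectTransparency false

open CategoryTheory CategoryTheory.Limits AlgebraicGeometry Topology IsLocalRing
open AlgSp Groth.Agent.SpFP87 Groth.Agent.SpPts86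

namespace Groth.Agent.SpVal61

variable {S : Scheme.{u}} {X Y : Sp S}

theorem finite_separable_of_etale {K : Type u} [Field K] {R : Scheme.{u}}
    (s : R ⟶ Spec (CommRingCat.of K)) [Etale s] (w : R) (ψ : CommRingCat.of K ⟶ R.residueField w)
    (h : Spec.map ψ = R.fromSpecResidueField w ≫ s) :
    letI := ψ.hom.toAlgebra
    Module.Finite K (R.residueField w) ∧ Algebra.IsSeparable K (R.residueField w) := by
  obtain ⟨κ, hκ⟩ : ∃ κ : CommRingCat.of K ⟶ (Spec (CommRingCat.of K)).residueField (s w),
      Spec.map κ = (Spec (CommRingCat.of K)).fromSpecResidueField (s w) := ⟨_, Spec.map_preimage _⟩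
  have hψ : ψ = κ ≫ s.residueFieldMap w := by
    rw [← Spec.map_inj, h, Spec.map_comp, hκ]
    exact (Scheme.Hom.SpecMap_residueFieldMap_fromSpecResidueField s w).symm
  have hb : Function.Bijective κ.hom := by
    have h1 : Set.range ((Spec (CommRingCat.of K)).fromSpecResidueField (s w)) = Set.univ := by
      rw [Scheme.range_fromSpecResidueField]
      exact Set.eq_univ_of_forall fun q => Subsingleton.elim (α := PrimeSpectrum K) q (s w)
    have : Surjective ((Spec (CommRingCat.of K)).fromSpecResidueField (s w)) := ⟨Set.range_eq_univ.mp h1⟩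
    have : IsClosedImmersion ((Spec (CommRingCat.of K)).fromSpecResidueField (s w)) :=
      .of_isPreimmersion _ (h1 ▸ isClosed_univ)
    have hi : IsIso (Spec.map κ) := hκ ▸ isIso_of_isClosedImmersion_of_surjective _
    have : IsIso (Scheme.Spec.map κ.op) := hi
    have : IsIso κ.op := isIso_of_reflects_iso κ.op Scheme.Spec
    have : IsIso κ := isIso_of_op κ
    exact ConcreteCategory.bijective_of_isIso κ
  have hs : Function.Surjective κ.hom := hb.2
  letI := ψ.hom.toAlgebra
  letI := (s.residueFieldMap w).hom.toAlgebra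
  have : LocallyQuasiFinite s := SpFP87.etale_locallyQuasiFinite s ‹_›
  have hfin : (s.residueFieldMap w).hom.Finite := FlatMor66.residueField_finite s w
  have hsep : Algebra.IsSeparable ((Spec (CommRingCat.of K)).residueField (s w)) (R.residueField w) :=
    inferInstance
  refine ⟨?_, ?_⟩
  · show ψ.hom.Finite
    rw [hψ]
    exact hfin.comp (RingHom.Finite.of_surjective _ hs)
  · refine Algebra.IsSeparable.of_equiv_equiv (RingEquiv.ofBijective κ.hom hb).symm
      (RingEquiv.refl (R.residueField w)) (RingHom.ext fun z => ?_)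
    obtain ⟨y, rfl⟩ := hs z
    show ψ.hom ((RingEquiv.ofBijective κ.hom hb).symm ((RingEquiv.ofBijective κ.hom hb) y)) = _
    rw [RingEquiv.symm_apply_apply, hψ]
    rfl

/-- The data of a lift after a finite separable extension dominated in a valuation subring. -/
theorem exists_finSep_lift (hX : IsAlgSpace X) (hY : IsAlgSpace Y) {f : X ⟶ Y}
    (hd : IsDecentMor f) (hc : IsUnivClosedMor f) (sq : ValSq f) :
    ∃ (K' : Type u) (_ : Field K') (W : ValuationSubring K') (φ : sq.A →+* W) (ψ : sq.K →+* K')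
      (hcm : (algebraMap W K').comp φ = ψ.comp (algebraMap sq.A sq.K)) (hl : IsLocalHom φ),
      (letI := ψ.toAlgebra; Module.Finite sq.K K' ∧ Algebra.IsSeparable sq.K K') ∧
      ({ A' := W, K' := K', φ := φ, ψ := ψ, comm := hcm, isLocalHom := hl } : sq.DomExt).HasLift := by
  have sqP := IsPullback.of_hasPullback f sq.bot
  let P := pullback f sq.bot
  let pX : P ⟶ X := pullback.fst f sq.bot
  let pA : P ⟶ (yon S).obj sq.ptA := pullback.snd f sq.bot
  have hP : IsAlgSpace P := isAlgSpace_of_isPullback sqP hX (IsAlgSpace.yon_obj _) hY.diag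
  have hPd : IsDecent P := hd sq.bot pX pA sqP
  have hcl : IsClosedMap (Points.map pA) := hc (IsAlgSpace.yon_obj _) sq.bot pX pA sqP
  let σ : (yon S).obj sq.ptK ⟶ P := pullback.lift sq.top ((yon S).map sq.j) sq.comm
  have hσX : σ ≫ pX = sq.top := pullback.lift_fst _ _ _
  have hσA : σ ≫ pA = (yon S).map sq.j := pullback.lift_snd _ _ _
  obtain ⟨c₀, -⟩ : ∃ c₀ : ↥sq.ptK.left, c₀ = IsLocalRing.closedPoint sq.K := ⟨_, rfl⟩
  obtain ⟨cA, hcA⟩ : ∃ cA : ↥sq.ptA.left, cA = IsLocalRing.closedPoint sq.A := ⟨_, rfl⟩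
  let x : Points P := Points.ofPt σ c₀
  have hgen : Points.map pA x ⤳ Points.ofScheme sq.ptA cA := by
    show Points.map pA (Points.ofPt σ c₀) ⤳ _
    rw [Points.map_ofPt, hσA, ofPt_yon_map]
    refine Specializes.map ?_ (Points.schemeHomeo sq.ptA).continuous
    rw [hcA]
    exact IsLocalRing.specializes_closedPoint _
  obtain ⟨z, hz, hzA⟩ : ∃ z ∈ closure {x}, Points.map pA z = Points.ofScheme sq.ptA cA :=
    closure_minimal (s := {Points.map pA x})
      (Set.singleton_subset_iff.2 ⟨x, subset_closure rfl, rfl⟩ : _ ⊆ Points.map pA '' closure {x}) (hcl _ isClosed_closure)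
      hgen.mem_closure
  obtain ⟨U, π, hπ, hπs⟩ := hP.atlas
  obtain ⟨b, rfl⟩ := surjective_ofPt hπs z
  obtain ⟨a, hab, hax⟩ := exists_generalization_lift hP hPd hπ (specializes_iff_mem_closure.2 hz)
  obtain ⟨c, hcπ⟩ := (yon S).map_surjective (π ≫ pA)
  obtain ⟨R, t, s, sqR⟩ := exists_isPullback_yon hP.diag π σ
  have het : Etale s.left := (repWith_yon_map_iff _ _).1
    ((repWith_isStableUnderBaseChange _).of_isPullback sqR hπ)
  obtain ⟨w, hw, -⟩ := exists_pt_of_isPullback' sqR a c₀ hax
  have hR : t ≫ c = s ≫ sq.j := (yon S).map_injective (by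
    rw [Functor.map_comp, Functor.map_comp, hcπ, ← Category.assoc, sqR.w, Category.assoc, hσA])
  let s' : R.left ⟶ Spec (CommRingCat.of sq.K) := s.left
  have : Etale s' := het
  let ψ : CommRingCat.of sq.K ⟶ R.left.residueField w :=
    Spec.preimage (R.left.fromSpecResidueField w ≫ s')
  have hψ : Spec.map ψ = R.left.fromSpecResidueField w ≫ s' := Spec.map_preimage _
  let g : Spec (R.left.residueField w) ⟶ U.left := R.left.fromSpecResidueField w ≫ t.left
  have hg : g (IsLocalRing.closedPoint (R.left.residueField w)) = a := by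
    show t.left (R.left.fromSpecResidueField w _) = a
    rw [Scheme.fromSpecResidueField_apply, hw]
  have hgb : g (IsLocalRing.closedPoint (R.left.residueField w)) ⤳ b := by rw [hg]; exact hab
  let f₀ : U.left.presheaf.stalk b ⟶ R.left.residueField w :=
    U.left.presheaf.stalkSpecializes hgb ≫ Scheme.stalkClosedPointTo g
  obtain ⟨W, hW, hWloc⟩ := exists_factor_valuationRing f₀.hom
  let st : U.left.presheaf.stalk b ⟶ CommRingCat.of W := CommRingCat.ofHom (f₀.hom.codRestrict _ hW)
  let inc : CommRingCat.of W ⟶ R.left.residueField w := CommRingCat.ofHom (algebraMap W (R.left.residueField w))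
  have hinc : st ≫ inc = f₀ := rfl
  let lU : Spec (CommRingCat.of W) ⟶ U.left := Spec.map st ≫ U.left.fromSpecStalk b
  have hlU : Spec.map inc ≫ lU = g := by
    rw [← Spec.map_comp_assoc, hinc, Spec.map_comp, Category.assoc,
      Scheme.SpecMap_stalkSpecializes_fromSpecStalk, Scheme.Spec_stalkClosedPointTo_fromSpecStalk]
  have hlUb : lU (IsLocalRing.closedPoint W) = b := by
    show U.left.fromSpecStalk b (Spec.map st (IsLocalRing.closedPoint W)) = b
    rw [show Spec.map st (IsLocalRing.closedPoint W) = IsLocalRing.closedPoint (U.left.presheaf.stalk b) from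
      @IsLocalRing.comap_closedPoint _ _ _ _ _ _ _ hWloc]
    exact Scheme.fromSpecStalk_closedPoint
  let φ : CommRingCat.of sq.A ⟶ CommRingCat.of W := Spec.preimage (lU ≫ c.left)
  have hφ : Spec.map φ = lU ≫ c.left := Spec.map_preimage _
  have hjl : sq.j.left = Spec.map (CommRingCat.ofHom (algebraMap sq.A sq.K)) := rfl
  have hRl : t.left ≫ c.left = s.left ≫ sq.j.left := by
    rw [← Over.comp_left, hR, Over.comp_left]
  have hcm : φ ≫ inc = CommRingCat.ofHom (algebraMap sq.A sq.K) ≫ ψ := by
    apply Spec.map_injective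
    rw [Spec.map_comp, Spec.map_comp, hφ, hψ, reassoc_of% hlU]
    show R.left.fromSpecResidueField w ≫ t.left ≫ c.left = _
    rw [hRl]
    exact (Category.assoc _ _ _).symm
  have hφloc : IsLocalHom φ.hom := by
    have hb : c.left b = cA := by
      apply (Points.schemeHomeo sq.ptA).injective
      show Points.ofScheme sq.ptA (c.left b) = Points.ofScheme sq.ptA cA
      rw [← ofPt_yon_map c b, hcπ, ← Points.map_ofPt, hzA]
    have h1 : (Spec.map φ) (IsLocalRing.closedPoint W) = IsLocalRing.closedPoint sq.A := by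
      rw [hφ, Scheme.Hom.comp_apply, hlUb, ← hcA]
      exact hb
    exact ((IsLocalRing.local_hom_TFAE φ.hom).out 0 4).2 (congrArg PrimeSpectrum.asIdeal h1)
  refine ⟨R.left.residueField w, inferInstance, W, φ.hom, ψ.hom, congrArg CommRingCat.Hom.hom hcm, hφloc,
    finite_separable_of_etale s' w ψ hψ, ?_⟩
  let e : sq.DomExt :=
    { A' := W, K' := R.left.residueField w, φ := φ.hom, ψ := ψ.hom,
      comm := congrArg CommRingCat.Hom.hom hcm, isLocalHom := hφloc }
  let l₀ : e.ptA' ⟶ U := Over.homMk lU (by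
    show lU ≫ U.hom = Spec.map φ ≫ sq.str
    rw [hφ, Category.assoc]
    exact congrArg (lU ≫ ·) (Over.w c).symm)
  let r₀ : e.ptK' ⟶ R := Over.homMk (R.left.fromSpecResidueField w) (by
    show R.left.fromSpecResidueField w ≫ R.hom =
      Spec.map inc ≫ Spec.map φ ≫ sq.str
    rw [← Spec.map_comp_assoc, hcm, Spec.map_comp_assoc, hψ, Category.assoc]
    exact congrArg (R.left.fromSpecResidueField w ≫ ·) (Over.w s).symm)
  refine ⟨(yon S).map l₀ ≫ π ≫ pX, ?_, ?_⟩
  · have h1 : (Over.homMk (Spec.map inc) rfl : e.ptK' ⟶ e.ptA') ≫ l₀ = r₀ ≫ t :=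
      Over.OverMorphism.ext hlU
    refine ((Category.assoc _ _ _).symm.trans
      (congrArg (· ≫ π ≫ pX) (((yon S).map_comp _ _).symm.trans
        ((congrArg (yon S).map h1).trans ((yon S).map_comp _ _))))).trans ?_
    rw [Category.assoc, reassoc_of% sqR.w, hσX, ← Category.assoc]
    refine congrArg (· ≫ sq.top) (((yon S).map_comp _ _).symm.trans (congrArg (yon S).map ?_))
    exact Over.OverMorphism.ext hψ.symm
  · have h2 : l₀ ≫ c = (Over.homMk (Spec.map φ) rfl : e.ptA' ⟶ sq.ptA) :=
      Over.OverMorphism.ext hφ.symm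
    rw [Category.assoc, Category.assoc, show pX ≫ f = pA ≫ sq.bot from sqP.w, ← Category.assoc π,
      ← hcπ, ← Category.assoc, ← Functor.map_comp, h2]
    rfl

theorem existVC_of_isUnivClosedMor (hX : IsAlgSpace X) (hY : IsAlgSpace Y) {f : X ⟶ Y}
    (hd : IsDecentMor f) (hc : IsUnivClosedMor f) : ExistVC f := fun sq => by
  obtain ⟨K', _, W, φ, ψ, hcm, hl, -, h⟩ := exists_finSep_lift hX hY hd hc sq
  exact ⟨_, h⟩

theorem exists_dvr_lift (hX : IsAlgSpace X) (hY : IsAlgSpace Y) {f : X ⟶ Y}
    (hd : IsDecentMor f) (hc : IsUnivClosedMor f) (sq : ValSq f) (hA : IsDiscreteValuationRing sq.A) :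
    ∃ e : sq.DomExt, IsDiscreteValuationRing e.A' ∧
      (letI := e.ψ.toAlgebra; Module.Finite sq.K e.K' ∧ Algebra.IsSeparable sq.K e.K') ∧ e.HasLift := by
  obtain ⟨K', _, W, φ, ψ, hcm, hl, hfs, h⟩ := exists_finSep_lift hX hY hd hc sq
  refine ⟨_, ?_, hfs, h⟩
  letI := ψ.toAlgebra
  have := hfs.1
  refine Ram24.dvr_of_dominates (B := sq.A) (L := sq.K) W ⟨fun z => ?_, fun z hz => ?_⟩
  · show ψ (algebraMap sq.A sq.K z) ∈ W
    rw [← RingHom.comp_apply, ← hcm]
    exact (φ z).2
  · show W.valuation (ψ (algebraMap sq.A sq.K z)) < 1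
    rw [← RingHom.comp_apply, ← hcm]
    have : φ z ∈ IsLocalRing.maximalIdeal W := fun hu => hz (hl.map_nonunit z hu)
    exact (W.valuation_lt_one_iff (φ z)).1 this

end Groth.Agent.SpVal61
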