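import Groth.Agent.SpVal61.Test
import Mathlib.AlgebraicGeometry.AffineSpace

/-!
Universal closedness is tested on affine spaces over a chart of the target.
-/

universe u

set_option autoImplicit false
set_option backward.isDefEq.respectTransparency false

open CategoryTheory CategoryTheory.Limits AlgebraicGeometry Topology
open AlgSp Groth.Agent.SpFP87 Groth.Agent.SpPts86

namespace Groth.Agent.SpVal61

variable {S : Scheme.{u}}

/-- Closed maps to schemes stay closed after base change along preimmersions. -/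
theorem isClosedMap_of_preimmersion {Q Q' : Sp S} {T T' : Over S} (hQ' : IsAlgSpace Q') {d : T ⟶ T'}
    [IsPreimmersion d.left] {m : Q ⟶ Q'} {p : Q ⟶ (yon S).obj T} {p' : Q' ⟶ (yon S).obj T'}
    (sq : IsPullback m p p' ((yon S).map d)) (h : IsClosedMap (Points.map p')) :
    IsClosedMap (Points.map p) := fun Z hZ => by
  obtain ⟨U', π', hπ', hπs'⟩ := hQ'.atlas
  obtain ⟨c', hc'⟩ := (yon S).map_surjective (π' ≫ p')
  obtain ⟨U, e, c, sqU⟩ := exists_isPullback_yon (IsAlgSpace.yon_obj T').diag ((yon S).map c') ((yon S).map d)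
  have he : IsPreimmersion e.left := by
    have sq₀ : IsPullback e c c' d :=
      IsPullback.of_map (yon S) ((yon S).map_injective (by rw [Functor.map_comp, Functor.map_comp]; exact sqU.w)) sqU
    exact MorphismProperty.of_isPullback (P := @IsPreimmersion) (sq₀.map (Over.forget S)).flip
      ‹IsPreimmersion d.left›
  let π : (yon S).obj U ⟶ Q := sq.lift ((yon S).map e ≫ π') ((yon S).map c)
    (by rw [Category.assoc, ← hc']; exact sqU.w)
  have sqπ : IsPullback π ((yon S).map e) m π' :=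
    IsPullback.of_right (by rw [sq.lift_snd, ← hc']; exact sqU.flip) (sq.lift_fst _ _ _) sq.flip
  let C := closure (Points.map m '' Z)
  have key : Points.map p '' Z = Points.map ((yon S).map d) ⁻¹' (Points.map p' '' C) := by
    refine Set.Subset.antisymm ?_ fun y ⟨x, hx, hxy⟩ => ?_
    · rintro _ ⟨z, hz, rfl⟩
      exact ⟨_, subset_closure ⟨z, hz, rfl⟩, by rw [← Points.map_comp, sq.w, Points.map_comp]⟩
    · obtain ⟨z, hzx, hzy⟩ := exists_of_isPullback sq x y hxy
      obtain ⟨u', rfl⟩ := surjective_ofPt hπs' x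
      obtain ⟨w, hw, hwu⟩ := exists_pt_of_isPullback sqπ z u' hzx
      refine ⟨z, ?_, hzy⟩
      have hu' : u' ∈ closure (e.left '' (Points.ofPt π ⁻¹' Z)) := by
        rw [← preimage_ofPt_image_map sqπ]
        exact (isOpenQuotientMap_ofPt hπ' hπs').isOpenMap.preimage_closure_subset_closure_preimage hx
      rw [← hwu] at hu'
      have hw' : w ∈ closure (Points.ofPt π ⁻¹' Z) :=
        e.left.isEmbedding.toIsInducing.closure_eq_preimage_closure_image _ ▸ hu'
      rw [← hw]
      rwa [(hZ.preimage (Points.continuous_ofPt π)).closure_eq] at hw'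
  rw [key]
  exact (h _ isClosed_closure).preimage (Points.continuous_map _)

variable {X Y : Sp S}

theorem isUnivClosedMor_of_affineSpace_test (hX : IsAlgSpace X) (hY : IsAlgSpace Y) {f : X ⟶ Y}
    (hq : IsQuasiCompactMor f) {V : Over S} {p : (yon S).obj V ⟶ Y} (hp : RepWith @Etale p)
    (hps : RepWith @Surjective p)
    (h : ∀ (n : ℕ) (P : Sp S) (fst : P ⟶ X)
      (snd : P ⟶ (yon S).obj (Over.mk ((𝔸(ULift.{u} (Fin n); V.left) ↘ V.left) ≫ V.hom))),
      IsPullback fst snd f ((yon S).map (Over.homMk (𝔸(ULift.{u} (Fin n); V.left) ↘ V.left)) ≫ p) →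
        IsClosedMap (Points.map snd)) :
    IsUnivClosedMor f :=
  isUnivClosedMor_of_affineOpen_test hX hY hq hp hps fun V₀ hV₀ A _ _ _ φ hφ Q fst snd sq => by
    obtain ⟨n, ρ, hρ⟩ := Algebra.FiniteType.iff_quotient_mvPolynomial''.mp
      (inferInstance : Algebra.FiniteType Γ(V.left, V₀) A)
    let N := ULift.{u} (Fin n)
    let ψ : MvPolynomial N Γ(V.left, V₀) →ₐ[Γ(V.left, V₀)] A :=
      ρ.comp (MvPolynomial.renameEquiv Γ(V.left, V₀) Equiv.ulift).toAlgHom
    have hψ : Function.Surjective ψ :=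
      hρ.comp (MvPolynomial.renameEquiv Γ(V.left, V₀) Equiv.ulift).surjective
    let i₁ := Spec.map (CommRingCat.ofHom ψ.toRingHom)
    have : IsClosedImmersion i₁ := IsClosedImmersion.spec_of_surjective _ hψ
    have : IsOpenImmersion (AffineSpace.map N hV₀.fromSpec) :=
      MorphismProperty.of_isPullback (AffineSpace.isPullback_map hV₀.fromSpec).flip inferInstance
    let d₀ : Spec (CommRingCat.of A) ⟶ 𝔸(N; V.left) :=
      (i₁ ≫ (AffineSpace.SpecIso N Γ(V.left, V₀)).inv) ≫ AffineSpace.map N hV₀.fromSpec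
    have : IsPreimmersion d₀ := by
      have : IsPreimmersion (i₁ ≫ (AffineSpace.SpecIso N Γ(V.left, V₀)).inv) := IsPreimmersion.comp _ _
      exact IsPreimmersion.comp _ _
    have hd : d₀ ≫ 𝔸(N; V.left) ↘ V.left = φ.left := by
      rw [hφ]
      simp only [d₀, i₁, Category.assoc, AffineSpace.map_over, AffineSpace.SpecIso_inv_over_assoc,
        ← Spec.map_comp_assoc, ← CommRingCat.ofHom_comp]
      congr 3
      exact ψ.comp_algebraMap
    let d : TA (hV₀.fromSpec ≫ V.hom) A ⟶ Over.mk ((𝔸(N; V.left) ↘ V.left) ≫ V.hom) :=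
      Over.homMk d₀ (by
        show d₀ ≫ (𝔸(N; V.left) ↘ V.left) ≫ V.hom = _
        rw [← Category.assoc, hd]
        exact Over.w φ)
    let a : Over.mk ((𝔸(N; V.left) ↘ V.left) ≫ V.hom) ⟶ V := Over.homMk (𝔸(N; V.left) ↘ V.left)
    have hda : d ≫ a = φ := Over.OverMorphism.ext hd
    have sq' := IsPullback.of_hasPullback f ((yon S).map a ≫ p)
    let Q' := pullback f ((yon S).map a ≫ p)
    have : IsPreimmersion d.left := ‹IsPreimmersion d₀›
    have hw : fst ≫ f = (snd ≫ (yon S).map d) ≫ (yon S).map a ≫ p := by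
      rw [sq.w, Category.assoc, ← Category.assoc ((yon S).map d), ← Functor.map_comp, hda]
    refine @isClosedMap_of_preimmersion _ Q Q' _ _ (isAlgSpace_of_isPullback sq' hX (IsAlgSpace.yon_obj _) hY.diag) d this
      (sq'.lift fst (snd ≫ (yon S).map d) hw) snd _ ?_ (h n Q' _ _ sq')
    refine IsPullback.of_right ?_ (sq'.lift_snd _ _ _) sq'
    rw [sq'.lift_fst, ← Category.assoc, ← Functor.map_comp, hda]
    exact sq

theorem isUnivClosedMor_iff (hX : IsAlgSpace X) (hY : IsAlgSpace Y) {f : X ⟶ Y}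
    (hq : IsQuasiCompactMor f) :
    (IsUnivClosedMor f ↔
      ∀ (Z : AlgSp.Space S) (g : Z.obj ⟶ Y), LocP @LocallyOfFinitePresentation g →
        ∀ (P : Sp S) (fst : P ⟶ X) (snd : P ⟶ Z.obj), IsPullback fst snd f g →
          IsClosedMap (Points.map snd)) ∧
    (IsUnivClosedMor f ↔
      ∃ (V : Over S) (p : (yon S).obj V ⟶ Y), RepWith @Etale p ∧ RepWith @Surjective p ∧
        ∀ (n : ℕ) (P : Sp S) (fst : P ⟶ X)
          (snd : P ⟶ (yon S).obj (Over.mk ((𝔸(ULift.{u} (Fin n); V.left) ↘ V.left) ≫ V.hom))),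
          IsPullback fst snd f ((yon S).map (Over.homMk (𝔸(ULift.{u} (Fin n); V.left) ↘ V.left)) ≫ p) →
            IsClosedMap (Points.map snd)) := by
  obtain ⟨V, p, hp, hps⟩ := hY.atlas
  refine ⟨⟨fun hc Z g _ P fst snd sq => hc Z.property g fst snd sq, fun h2 => ?_⟩,
    ⟨fun hc => ⟨V, p, hp, hps, fun n P fst snd sq => hc (IsAlgSpace.yon_obj _) _ fst snd sq⟩,
      fun ⟨V', p', hp', hps', h3⟩ => isUnivClosedMor_of_affineSpace_test hX hY hq hp' hps' h3⟩⟩
  refine isUnivClosedMor_of_affineSpace_test hX hY hq hp hps fun n P fst snd sq => ?_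
  refine h2 ⟨(yon S).obj _, IsAlgSpace.yon_obj _⟩ _ ?_ P fst snd sq
  exact locP_of_chart (IsAlgSpace.yon_obj _).diag hY.diag (repWith_id _ _) (repWith_id _ _) hp
    (Category.id_comp _) (inferInstanceAs (LocallyOfFinitePresentation (𝔸(ULift.{u} (Fin n); V.left) ↘ V.left)))

end Groth.Agent.SpVal61
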