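import Groth.Agent.SpVal61.Test
import Groth.Agent.SpVal61.Lift
import Groth.Agent.SpPts86.ProperCrit
import Groth.Agent.SpPts86.ValDesc
import Groth.Agent.SpFP87.LocPRep
import Groth.Agent.SpFP87.QsDecent

/-!
Valuative criteria for separatedness and properness over discrete valuation rings.
-/

universe u

set_option autoImplicit false
set_option backward.isDefEq.respectTransparency false

open CategoryTheory CategoryTheory.Limits AlgebraicGeometry Topology
open AlgSp Groth.Agent.SpFP87 Groth.Agent.SpPts86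

namespace Groth.Agent.SpVal61

variable {S : Scheme.{u}} {X Y : Sp S}

theorem hasLiftExt_of_hasLift {f : X ⟶ Y} {q : ValSq f} (h : q.HasLift) : q.HasLiftExt := by
  obtain ⟨l, h1, h2⟩ := h
  let e : q.DomExt :=
    { A' := q.A, K' := q.K, φ := RingHom.id _, ψ := RingHom.id _,
      comm := by rw [RingHom.comp_id, RingHom.id_comp], isLocalHom := isLocalHom_id q.A }
  let i : e.ptA' ⟶ q.ptA := Over.homMk (Spec.map (CommRingCat.ofHom e.φ)) rfl
  refine ⟨e, (yon S).map i ≫ l, ?_, ?_⟩
  · rw [← h1, ← Functor.map_comp_assoc, ← Functor.map_comp_assoc]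
    congr 2
    refine Over.OverMorphism.ext ?_
    change Spec.map _ ≫ Spec.map _ = Spec.map _ ≫ Spec.map _
    rw [← Spec.map_comp, ← Spec.map_comp, ← CommRingCat.ofHom_comp, ← CommRingCat.ofHom_comp, e.comm]
  · rw [Category.assoc, h2]

theorem isLocNoethSp_of_lft (hX : IsAlgSpace X) (hY : IsAlgSpace Y) {f : X ⟶ Y}
    (hf : LocP @LocallyOfFiniteType f) (hN : IsLocNoethSp Y) : IsLocNoethSp X := by
  obtain ⟨V, b, hb, hbs, hV⟩ := hN
  obtain ⟨U, a, h, ha, has, w⟩ := exists_compatible_chart f hX hY.diag hb hbs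
  have : LocallyOfFiniteType h.left := hf a b h ha hb w
  have : IsLocallyNoetherian V.left := hV
  exact ⟨U, a, ha, has, LocallyOfFiniteType.isLocallyNoetherian h.left⟩

/-- Uniqueness of lifts on discrete valuation rings gives separatedness. -/
theorem isSeparatedMor_of_dvr (hX : IsAlgSpace X) (hY : IsAlgSpace Y) {f : X ⟶ Y}
    (hqs : IsQuasiSeparatedMor f) (hft : LocP @LocallyOfFiniteType f) (hN : IsLocNoethSp Y)
    (hu : ∀ sq : ValSq f, IsDiscreteValuationRing sq.A → sq.HasUniq) : IsSeparatedMor f := by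
  refine isSeparatedMor_of_diag_univClosed hX hY ?_
  have sqP := IsPullback.of_hasPullback f f
  have hP : IsAlgSpace (pullback f f) := isAlgSpace_of_isPullback sqP hX hX hY.diag
  have hP2 : LocP @LocallyOfFiniteType (pullback.snd f f) := locP_baseChange sqP hX hY hX hft
  have hNX := isLocNoethSp_of_lft hX hY hft hN
  have hNP := isLocNoethSp_of_lft hP hX hP2 hNX
  have hd : RepWith @LocallyOfFiniteType (pullback.diagonal f) :=
    repWith_mono diagLike_le_lft (repWith_diagLike_diagonal hX f)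
  refine isUnivClosedMor_of_dvr hX hP
    ⟨locP_of_repWith hX.diag hP hd, isQuasiCompactMor_of_repWith hP hqs⟩ hNP fun sq hA => ?_
  have e1 : sq.top ≫ pullback.diagonal f ≫ pullback.fst f f = sq.top := by
    rw [pullback.diagonal_fst, Category.comp_id]
  have e2 : sq.top ≫ pullback.diagonal f ≫ pullback.snd f f = sq.top := by
    rw [pullback.diagonal_snd, Category.comp_id]
  have h1 : (yon S).map sq.j ≫ sq.bot ≫ pullback.fst f f = sq.top := by
    rw [← Category.assoc, ← sq.comm, Category.assoc]; exact e1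
  have h2 : (yon S).map sq.j ≫ sq.bot ≫ pullback.snd f f = sq.top := by
    rw [← Category.assoc, ← sq.comm, Category.assoc]; exact e2
  let q : ValSq f :=
    { A := sq.A, K := sq.K, str := sq.str, top := sq.top, bot := sq.bot ≫ pullback.fst f f ≫ f
      comm := (congrArg (· ≫ f) h1.symm).trans ((Category.assoc _ _ _).trans
        (congrArg ((yon S).map sq.j ≫ ·) (Category.assoc _ _ _))) }
  have he : sq.bot ≫ pullback.fst f f = sq.bot ≫ pullback.snd f f :=
    hu q hA (sq.bot ≫ pullback.fst f f) (sq.bot ≫ pullback.snd f f) h1 (Category.assoc _ _ _) h2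
      ((Category.assoc _ _ _).trans (congrArg (sq.bot ≫ ·) pullback.condition.symm))
  refine hasLiftExt_of_hasLift ⟨sq.bot ≫ pullback.fst f f, h1, ?_⟩
  apply pullback.hom_ext
  · rw [Category.assoc, pullback.diagonal_fst, Category.comp_id]
  · rw [Category.assoc, pullback.diagonal_snd, Category.comp_id, he]

theorem isSeparatedMor_iff_dvr (hX : IsAlgSpace X) (hY : IsAlgSpace Y) {f : X ⟶ Y}
    (hqs : IsQuasiSeparatedMor f) (hft : LocP @LocallyOfFiniteType f) (hN : IsLocNoethSp Y) :
    IsSeparatedMor f ↔ ∀ sq : ValSq f, IsDiscreteValuationRing sq.A → sq.HasUniq :=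
  ⟨fun h sq _ => uniqVC_of_isSeparatedMor h sq, isSeparatedMor_of_dvr hX hY hqs hft hN⟩

theorem isProperMor_iff_dvr (hX : IsAlgSpace X) (hY : IsAlgSpace Y) {f : X ⟶ Y}
    (hqs : IsQuasiSeparatedMor f) (hft : IsFiniteTypeMor f) (hN : IsLocNoethSp Y) :
    IsProperMor f ↔ ∀ sq : ValSq f, IsDiscreteValuationRing sq.A → sq.HasLift ∧ sq.HasUniq := by
  refine ⟨fun ⟨hs, _, hc⟩ sq _ => ⟨?_, uniqVC_of_isSeparatedMor hs sq⟩, fun h => ?_⟩
  · obtain ⟨e, he⟩ := existVC_of_isUnivClosedMor hX hY (isDecentMor_of_qs hX hY hqs) hc sq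
    exact hasLift_of_domExt hX hY hs sq e he
  · exact ⟨isSeparatedMor_of_dvr hX hY hqs hft.1 hN fun sq hA => (h sq hA).2, hft,
      isUnivClosedMor_of_dvr hX hY hft hN fun sq hA => hasLiftExt_of_hasLift (h sq hA).1⟩

end Groth.Agent.SpVal61
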