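import Groth.Prelude.Def_AlgSpMor5
import Groth.Agent.SpPts86.UnivTop
import Groth.Agent.SpPts86.Compact
import Groth.Agent.SpFP87.Basic
import Mathlib.AlgebraicGeometry.Morphisms.QuasiCompact
import Mathlib.RingTheory.Valuation.LocalSubring

/-!
Closedness of maps of points from lifts of valuative squares.
-/

universe u

set_option autoImplicit false
set_option backward.isDefEq.respectTransparency false

open CategoryTheory CategoryTheory.Limits AlgebraicGeometry Topology IsLocalRing
open AlgSp Groth.Agent.SpFP87 Groth.Agent.SpPts86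

namespace Groth.Agent.SpVal61

variable {S : Scheme.{u}} {X Y P : Sp S}

theorem isClosed_image_affine_of_specializes {U T : Scheme.{u}} [IsAffine U] [IsAffine T] (h : U ⟶ T)
    {Z : Set U} (hZ : IsClosed Z) (H : ∀ z ∈ Z, ∀ t, h z ⤳ t → t ∈ h '' Z) : IsClosed (h '' Z) := by
  obtain ⟨φ, hφ⟩ := Spec.map_surjective (U.isoSpec.inv ≫ h ≫ T.isoSpec.hom)
  have hcomp : ∀ q, Spec.map φ q = T.isoSpec.hom (h (U.isoSpec.inv q)) := fun q => by rw [hφ]; rfl
  have himg : Spec.map φ '' (U.isoSpec.inv ⁻¹' Z) = T.isoSpec.hom '' (h '' Z) := by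
    ext p
    constructor
    · rintro ⟨q, hq, rfl⟩
      exact ⟨_, ⟨_, hq, rfl⟩, (hcomp q).symm⟩
    · rintro ⟨_, ⟨z, hz, rfl⟩, rfl⟩
      refine ⟨U.isoSpec.hom z, ?_, ?_⟩
      · show U.isoSpec.inv (U.isoSpec.hom z) ∈ Z
        rwa [Scheme.hom_inv_apply]
      · rw [hcomp, Scheme.hom_inv_apply]
  have hs : StableUnderSpecialization (T.isoSpec.hom '' (h '' Z)) := by
    rintro _ p hp ⟨_, ⟨z, hz, rfl⟩, rfl⟩
    have hp' := hp.map T.isoSpec.inv.continuous
    rw [Scheme.hom_inv_apply] at hp'
    exact ⟨_, H z hz _ hp', Scheme.inv_hom_apply _ _⟩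
  have hc : IsClosed (T.isoSpec.hom '' (h '' Z)) := by
    rw [← himg] at hs ⊢
    exact PrimeSpectrum.isClosed_image_of_stableUnderSpecialization φ.hom _
      (hZ.preimage U.isoSpec.inv.continuous) hs
  have := hc.preimage T.isoSpec.hom.continuous
  rwa [Set.preimage_image_eq _ T.isoSpec.hom.isOpenEmbedding.injective] at this

/-- Closedness over an affine scheme from the lifting of specializations. -/
theorem isClosedMap_of_specializes (hP : IsAlgSpace P) [CompactSpace (Points P)] {T : Over S}
    [IsAffine T.left] (p : P ⟶ (yon S).obj T)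
    (H : ∀ (U : Over S) (π : (yon S).obj U ⟶ P) (c : U ⟶ T), (yon S).map c = π ≫ p →
      RepWith @Etale π → ∀ (z : ↥U.left) (t : ↥T.left), c.left z ⤳ t →
        ∃ y : Points P, Points.ofPt π z ⤳ y ∧ Points.map p y = Points.ofScheme T t) :
    IsClosedMap (Points.map p) := by
  obtain ⟨U, π, hU, hπ, hπs⟩ := exists_affine_chart_of_compactSpace hP
  have := hU
  obtain ⟨c, hc⟩ := (yon S).map_surjective (π ≫ p)
  intro Z hZ
  have hcp : ∀ z, Points.map p (Points.ofPt π z) = Points.ofScheme T (c.left z) := fun z => by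
    rw [Points.map_ofPt, ← hc, ofPt_yon_map]
  have himg : Points.map p '' Z = Points.schemeHomeo T '' (c.left '' (Points.ofPt π ⁻¹' Z)) := by
    ext y
    constructor
    · rintro ⟨x, hx, rfl⟩
      obtain ⟨z, rfl⟩ := surjective_ofPt hπs x
      exact ⟨_, ⟨z, hx, rfl⟩, (hcp z).symm⟩
    · rintro ⟨_, ⟨z, hz, rfl⟩, rfl⟩
      exact ⟨_, hz, hcp z⟩
  rw [himg]
  refine (Points.schemeHomeo T).isClosedMap _
    (isClosed_image_affine_of_specializes c.left (hZ.preimage (Points.continuous_ofPt π)) fun z hz t ht => ?_)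
  obtain ⟨y, hy, hyt⟩ := H U π c hc hπ z t ht
  obtain ⟨z', rfl⟩ := surjective_ofPt hπs y
  exact ⟨z', hy.mem_closed hZ hz, (Points.schemeHomeo T).injective ((hcp z').symm.trans hyt)⟩

/-- A lift of the square at a point of a chart gives a specialization. -/
theorem exists_specializes_of_lifts {f : X ⟶ Y} {T : Over S} {g : (yon S).obj T ⟶ Y}
    {pX : P ⟶ X} {p : P ⟶ (yon S).obj T} (sqP : IsPullback pX p f g)
    {U : Over S} {π : (yon S).obj U ⟶ P} {c : U ⟶ T} (hc : (yon S).map c = π ≫ p)
    {z : ↥U.left} (W : ValuationSubring (U.left.residueField z))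
    {k : Spec (CommRingCat.of W) ⟶ T.left} {t : ↥T.left} (hkt : k (closedPoint W) = t)
    (hk : Spec.map (CommRingCat.ofHom (algebraMap W (U.left.residueField z))) ≫ k =
      U.left.fromSpecResidueField z ≫ c.left)
    (hl : ∀ sq : ValSq f, (IsDiscreteValuationRing W → IsDiscreteValuationRing sq.A) → sq.HasLiftExt) :
    ∃ y : Points P, Points.ofPt π z ⤳ y ∧ Points.map p y = Points.ofScheme T t := by
  let str : Spec (CommRingCat.of W) ⟶ S := k ≫ T.hom
  let kA : Over.mk str ⟶ T := Over.homMk k rfl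
  let zK : Over.mk (Spec.map (CommRingCat.ofHom (algebraMap W (U.left.residueField z))) ≫ str) ⟶ U :=
    Over.homMk (U.left.fromSpecResidueField z) (by
      show U.left.fromSpecResidueField z ≫ U.hom = Spec.map _ ≫ k ≫ T.hom
      rw [reassoc_of% hk]
      exact congrArg (_ ≫ ·) (Over.w c).symm)
  have hzk : zK ≫ c =
      (Over.homMk (Spec.map (CommRingCat.ofHom (algebraMap W (U.left.residueField z)))) rfl :
        Over.mk (Spec.map (CommRingCat.ofHom (algebraMap W (U.left.residueField z))) ≫ str) ⟶ Over.mk str) ≫ kA :=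
    Over.OverMorphism.ext hk.symm
  let sq : ValSq f :=
    { A := W, K := U.left.residueField z, str := str
      top := (yon S).map zK ≫ π ≫ pX
      bot := (yon S).map kA ≫ g
      comm := (Category.assoc _ _ _).trans
        ((congrArg ((yon S).map zK ≫ ·) ((Category.assoc _ _ _).trans
          ((congrArg (π ≫ ·) sqP.w).trans ((Category.assoc _ _ _).symm.trans
            (congrArg (· ≫ g) hc.symm))))).trans
        ((Category.assoc _ _ _).symm.trans
          ((congrArg (· ≫ g) (((yon S).map_comp _ _).symm.trans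
            ((congrArg (yon S).map hzk).trans ((yon S).map_comp _ _)))).trans (Category.assoc _ _ _)))) }
  obtain ⟨e, l, hl1, hl2⟩ := hl sq fun h => h
  let jA : e.ptA' ⟶ sq.ptA := Over.homMk (Spec.map (CommRingCat.ofHom e.φ)) rfl
  let L : (yon S).obj e.ptA' ⟶ P := sqP.lift l ((yon S).map (jA ≫ kA))
    (hl2.trans ((Category.assoc _ _ _).symm.trans (congrArg (· ≫ g) ((yon S).map_comp _ _).symm)))
  let jK : e.ptK' ⟶ e.ptA' := Over.homMk (Spec.map (CommRingCat.ofHom (algebraMap e.A' e.K'))) rfl
  let qK : e.ptK' ⟶ sq.ptK := Over.homMk (Spec.map (CommRingCat.ofHom e.ψ)) (by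
    change Spec.map _ ≫ Spec.map _ ≫ _ = Spec.map _ ≫ Spec.map _ ≫ _
    rw [← Spec.map_comp_assoc, ← Spec.map_comp_assoc, ← CommRingCat.ofHom_comp,
      ← CommRingCat.ofHom_comp, e.comm])
  have hq : qK ≫ sq.j = jK ≫ jA := Over.OverMorphism.ext (by
    change Spec.map _ ≫ Spec.map _ = Spec.map _ ≫ Spec.map _
    rw [← Spec.map_comp, ← Spec.map_comp, ← CommRingCat.ofHom_comp, ← CommRingCat.ofHom_comp, e.comm])
  have hLK : (yon S).map jK ≫ L = (yon S).map (qK ≫ zK) ≫ π := by
    apply sqP.hom_ext
    · refine (Category.assoc _ _ _).trans ((congrArg ((yon S).map jK ≫ ·) (sqP.lift_fst _ _ _)).trans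
        (hl1.trans ?_))
      exact (Category.assoc _ _ _).symm.trans ((congrArg (· ≫ π ≫ pX) ((yon S).map_comp _ _).symm).trans
        (Category.assoc _ _ _).symm)
    · refine (Category.assoc _ _ _).trans ((congrArg ((yon S).map jK ≫ ·) (sqP.lift_snd _ _ _)).trans ?_)
      refine ((yon S).map_comp _ _).symm.trans (Eq.trans ?_ ((((yon S).map_comp _ _).trans
        (congrArg ((yon S).map (qK ≫ zK) ≫ ·) hc)).trans (Category.assoc _ _ _).symm))
      refine congrArg (yon S).map ?_
      exact (Category.assoc _ _ _).symm.trans ((congrArg (· ≫ kA) hq.symm).trans ((Category.assoc _ _ _).trans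
        ((congrArg (qK ≫ ·) hzk.symm).trans (Category.assoc _ _ _).symm)))
  obtain ⟨cA, hcA⟩ : ∃ cA : ↥e.ptA'.left, cA = closedPoint e.A' := ⟨_, rfl⟩
  obtain ⟨cK, hcK⟩ : ∃ cK : ↥e.ptK'.left, cK = closedPoint e.K' := ⟨_, rfl⟩
  refine ⟨Points.ofPt L cA, ?_, ?_⟩
  · have h1 : Points.ofPt ((yon S).map jK ≫ L) cK = Points.ofPt π z := by
      rw [hLK, ofPt_comp]
      refine congrArg (Points.ofPt π) ?_
      rw [Over.comp_left, Scheme.Hom.comp_apply]
      exact Scheme.fromSpecResidueField_apply z (qK.left cK)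
    rw [← h1, ofPt_comp]
    refine Specializes.map ?_ (Points.continuous_ofPt L)
    rw [hcA]
    exact specializes_closedPoint _
  · rw [Points.map_ofPt, sqP.lift_snd, ofPt_yon_map]
    refine congrArg (Points.ofScheme T) ?_
    rw [Over.comp_left, Scheme.Hom.comp_apply, hcA, ← hkt]
    refine congrArg k ?_
    have := e.isLocalHom
    exact IsLocalRing.comap_closedPoint e.φ

/-- A quasi-compact morphism satisfying the existence part of the valuative criterion is universally
closed. -/
theorem isUnivClosedMor_of_existVC (hX : IsAlgSpace X) (hY : IsAlgSpace Y) {f : X ⟶ Y}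
    (hq : IsQuasiCompactMor f) (he : ExistVC f) : IsUnivClosedMor f :=
  isUnivClosedMor_of_affine fun T hT g P pX p sqP => by
    have := hT
    have : CompactSpace ↥T.left := inferInstance
    have := compactSpace_points_yon T
    have := compactSpace_of_isQuasiCompactMor hq (IsAlgSpace.yon_obj T) sqP
    refine isClosedMap_of_specializes (isAlgSpace_of_isPullback sqP hX (IsAlgSpace.yon_obj _) hY.diag) p
      fun U π c hc _ z t ht => ?_
    let f₀ : T.left.presheaf.stalk t ⟶ U.left.residueField z :=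
      T.left.presheaf.stalkSpecializes ht ≫ c.left.stalkMap z ≫ U.left.residue z
    obtain ⟨W, hW, hWloc⟩ := exists_factor_valuationRing f₀.hom
    let st : T.left.presheaf.stalk t ⟶ CommRingCat.of W := CommRingCat.ofHom (f₀.hom.codRestrict _ hW)
    refine exists_specializes_of_lifts sqP hc W (k := Spec.map st ≫ T.left.fromSpecStalk t) ?_ ?_
      fun sq _ => he sq
    · show T.left.fromSpecStalk t (Spec.map st (closedPoint W)) = t
      rw [show Spec.map st (closedPoint W) = closedPoint (T.left.presheaf.stalk t) from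
        @IsLocalRing.comap_closedPoint _ _ _ _ _ _ _ hWloc]
      exact Scheme.fromSpecStalk_closedPoint
    · rw [← Spec.map_comp_assoc]
      show Spec.map f₀ ≫ _ = _
      rw [Scheme.fromSpecResidueField, Category.assoc, ← Scheme.SpecMap_stalkMap_fromSpecStalk,
        ← Scheme.SpecMap_stalkSpecializes_fromSpecStalk ht]
      simp only [f₀, Spec.map_comp, Category.assoc]

end Groth.Agent.SpVal61
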