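import Groth.Prelude.Def_AlgSp4
import Groth.Agent.EGA73.UnivClosedFT
import Groth.Agent.SpPts86.UnivTop
import Mathlib.AlgebraicGeometry.Pullbacks
import Mathlib.Algebra.Category.Ring.Constructions

/-!
Closedness of maps to affine schemes is tested on algebras of finite type.
-/

universe u

set_option autoImplicit false
set_option backward.isDefEq.respectTransparency false

open CategoryTheory CategoryTheory.Limits AlgebraicGeometry Topology
open AlgSp Groth.Agent.SpFP87 Groth.Agent.SpPts86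
open scoped TensorProduct

namespace Groth.Agent.SpVal61

variable {S : Scheme.{u}}

section Charts

variable {R B : Type u} [CommRing R] [CommRing B] [Algebra R B] (str : Spec (CommRingCat.of R) ⟶ S)
  (A : Type u) [CommRing A] [Algebra R A]

/-- The spectrum of an algebra over the base. -/
noncomputable abbrev TA : Over S := Over.mk (Spec.map (CommRingCat.ofHom (algebraMap R A)) ≫ str)

noncomputable abbrev aTo : TA str A ⟶ Over.mk str := Over.homMk (Spec.map (CommRingCat.ofHom (algebraMap R A))) rfl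

variable (B) in
/-- The base change of the chart. -/
noncomputable abbrev UA : Over S :=
  Over.mk (Spec.map (CommRingCat.ofHom (Algebra.TensorProduct.includeRight : A →ₐ[R] B ⊗[R] A).toRingHom) ≫
    (TA str A).hom)

variable (B) in
noncomputable abbrev cTo : UA B str A ⟶ TA str A :=
  Over.homMk (Spec.map (CommRingCat.ofHom (Algebra.TensorProduct.includeRight : A →ₐ[R] B ⊗[R] A).toRingHom)) rfl

variable (B) in
noncomputable abbrev uTo : UA B str A ⟶ TA str B :=
  Over.homMk (Spec.map (CommRingCat.ofHom (Algebra.TensorProduct.includeLeftRingHom : B →+* B ⊗[R] A))) (by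
    show Spec.map _ ≫ Spec.map _ ≫ str = Spec.map _ ≫ Spec.map _ ≫ str
    rw [← Spec.map_comp_assoc, ← Spec.map_comp_assoc, ← CommRingCat.ofHom_comp, ← CommRingCat.ofHom_comp]
    congr 3
    ext r
    exact ((Algebra.TensorProduct.includeLeft : B →ₐ[R] B ⊗[R] A).commutes r).trans
      ((Algebra.TensorProduct.includeRight : A →ₐ[R] B ⊗[R] A).commutes r).symm)

theorem isPullback_uTo : IsPullback (uTo B str A) (cTo B str A) (aTo str B) (aTo str A) :=
  IsPullback.of_map_of_faithful (Over.forget S)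
    (isPullback_SpecMap_of_isPushout _ _ _ _ (CommRingCat.isPushout_tensorProduct R B A))

end Charts

variable {R B : Type u} [CommRing R] [CommRing B] [Algebra R B] {str : Spec (CommRingCat.of R) ⟶ S}

/-- Closedness of the base change to any algebra from closedness for finitely generated ones. -/
theorem isClosedMap_of_fg {P : Sp S} {pR : P ⟶ (yon S).obj (Over.mk str)}
    {π : (yon S).obj (TA str B) ⟶ P} (hπ : RepWith @Etale π) (hπs : RepWith @Surjective π)
    (hc : π ≫ pR = (yon S).map (aTo str B)) {A : Type u} [CommRing A] [Algebra R A]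
    (h : ∀ (T : Subalgebra R A), T.FG → ∀ (Q : Sp S) (q₁ : Q ⟶ P) (q₂ : Q ⟶ (yon S).obj (TA str T)),
      IsPullback q₁ q₂ pR ((yon S).map (aTo str T)) → IsClosedMap (Points.map q₂))
    {Q : Sp S} {q₁ : Q ⟶ P} {q₂ : Q ⟶ (yon S).obj (TA str A)}
    (sq : IsPullback q₁ q₂ pR ((yon S).map (aTo str A))) : IsClosedMap (Points.map q₂) := by
  intro Z hZ
  refine isClosed_of_closure_subset fun y hy => ?_
  obtain ⟨t, rfl⟩ := (Points.schemeHomeo (TA str A)).surjective y
  change Points.ofScheme _ t ∈ _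
  by_contra hyZ
  let πA : (yon S).obj (UA B str A) ⟶ Q :=
    sq.lift ((yon S).map (uTo B str A) ≫ π) ((yon S).map (cTo B str A))
      (by rw [Category.assoc, hc, ← Functor.map_comp, ← Functor.map_comp, (isPullback_uTo str A).w])
  have hπA₁ : πA ≫ q₁ = (yon S).map (uTo B str A) ≫ π := sq.lift_fst _ _ _
  have hπA₂ : πA ≫ q₂ = (yon S).map (cTo B str A) := sq.lift_snd _ _ _
  have sqπA : IsPullback πA ((yon S).map (uTo B str A)) q₁ π :=
    IsPullback.of_right (by rw [hπA₂, hc]; exact ((isPullback_uTo str A).map (yon S)).flip) hπA₁ sq.flip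
  have hcA : ∀ q, Points.map q₂ (Points.ofPt πA q) = Points.ofScheme (TA str A) ((cTo B str A).left q) :=
    fun q => by rw [Points.map_ofPt, hπA₂, ofPt_yon_map]
  let Z' : Set (PrimeSpectrum (B ⊗[R] A)) :=
    (fun q : PrimeSpectrum (B ⊗[R] A) => Points.ofPt πA q) ⁻¹' Z
  have hZ' : IsClosed Z' := hZ.preimage (Points.continuous_ofPt πA)
  let J := PrimeSpectrum.vanishingIdeal Z'
  have hJ : ∀ q : PrimeSpectrum (B ⊗[R] A), J ≤ q.asIdeal ↔ q ∈ Z' := fun q => by
    have e : q ∈ PrimeSpectrum.zeroLocus (J : Set (B ⊗[R] A)) ↔ J ≤ q.asIdeal := Iff.rfl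
    rw [← e, PrimeSpectrum.zeroLocus_vanishingIdeal_eq_closure, hZ'.closure_eq]
  obtain ⟨T, g₀, a, hT, ha, hg₀, hga⟩ := EGA73.exists_witness (R := R) J t fun q hq he =>
    hyZ ⟨_, (hJ q).1 hq, (hcA q).trans (congrArg (Points.ofScheme (TA str A)) he)⟩
  let tσ : TA str A ⟶ TA str T := Over.homMk (Spec.map (CommRingCat.ofHom T.val.toRingHom)) (by
    show Spec.map _ ≫ Spec.map _ ≫ str = Spec.map _ ≫ str
    rw [← Spec.map_comp_assoc, ← CommRingCat.ofHom_comp]
    rfl)
  have htσ : tσ ≫ aTo str T = aTo str A := Over.OverMorphism.ext (by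
    change Spec.map _ ≫ Spec.map _ = Spec.map _
    rw [← Spec.map_comp, ← CommRingCat.ofHom_comp]
    rfl)
  let QT := pullback pR ((yon S).map (aTo str T))
  let r₁ : QT ⟶ P := pullback.fst _ _
  let r₂ : QT ⟶ (yon S).obj (TA str T) := pullback.snd _ _
  have sqT : IsPullback r₁ r₂ pR ((yon S).map (aTo str T)) := IsPullback.of_hasPullback _ _
  let m : Q ⟶ QT := sqT.lift q₁ (q₂ ≫ (yon S).map tσ)
    (by rw [Category.assoc, ← Functor.map_comp, htσ, sq.w])
  have hm₁ : m ≫ r₁ = q₁ := sqT.lift_fst _ _ _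
  have hm₂ : m ≫ r₂ = q₂ ≫ (yon S).map tσ := sqT.lift_snd _ _ _
  let πT : (yon S).obj (UA B str T) ⟶ QT :=
    sqT.lift ((yon S).map (uTo B str T) ≫ π) ((yon S).map (cTo B str T))
      (by rw [Category.assoc, hc, ← Functor.map_comp, ← Functor.map_comp, (isPullback_uTo str T).w])
  have hπT₁ : πT ≫ r₁ = (yon S).map (uTo B str T) ≫ π := sqT.lift_fst _ _ _
  have hπT₂ : πT ≫ r₂ = (yon S).map (cTo B str T) := sqT.lift_snd _ _ _
  have sqπT : IsPullback πT ((yon S).map (uTo B str T)) r₁ π :=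
    IsPullback.of_right (by rw [hπT₂, hc]; exact ((isPullback_uTo str T).map (yon S)).flip) hπT₁ sqT.flip
  let incl := Algebra.TensorProduct.map (AlgHom.id R B) T.val
  let μ : UA B str A ⟶ UA B str T := Over.homMk (Spec.map (CommRingCat.ofHom incl.toRingHom)) (by
    show Spec.map _ ≫ Spec.map _ ≫ Spec.map _ ≫ str = Spec.map _ ≫ Spec.map _ ≫ str
    simp only [← Spec.map_comp_assoc, ← CommRingCat.ofHom_comp]
    congr 3)
  have hμu : μ ≫ uTo B str T = uTo B str A := Over.OverMorphism.ext (by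
    change Spec.map _ ≫ Spec.map _ = Spec.map _
    rw [← Spec.map_comp, ← CommRingCat.ofHom_comp]
    congr 2)
  have hμc : μ ≫ cTo B str T = cTo B str A ≫ tσ := Over.OverMorphism.ext (by
    change Spec.map _ ≫ Spec.map _ = Spec.map _ ≫ Spec.map _
    rw [← Spec.map_comp, ← Spec.map_comp, ← CommRingCat.ofHom_comp, ← CommRingCat.ofHom_comp]
    congr 2)
  have hμm : πA ≫ m = (yon S).map μ ≫ πT := by
    apply sqT.hom_ext
    · rw [Category.assoc, hm₁, hπA₁, Category.assoc, hπT₁, ← Category.assoc, ← Functor.map_comp, hμu]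
    · rw [Category.assoc, hm₂, Category.assoc, hπT₂, ← Functor.map_comp, hμc, Functor.map_comp,
        ← Category.assoc, hπA₂]
  have sqμ : IsPullback πA ((yon S).map μ) m πT :=
    IsPullback.of_bot (by rw [← Functor.map_comp, hμu, hm₁]; exact sqπA) hμm sqπT
  have hTe : RepWith @Etale πT := (repWith_isStableUnderBaseChange _).of_isPullback sqπT.flip hπ
  have hTs : RepWith @Surjective πT := (repWith_isStableUnderBaseChange _).of_isPullback sqπT.flip hπs
  have hmem : Points.ofScheme (TA str T) (tσ.left t) ∈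
      Points.map r₂ '' closure (Points.map m '' Z) := by
    have hy' := map_mem_closure (Points.continuous_map ((yon S).map tσ)) hy (Set.mapsTo_image _ _)
    rw [Points.map_yon_map_apply] at hy'
    refine closure_minimal ?_ (h T hT QT r₁ r₂ sqT _ isClosed_closure) hy'
    rintro _ ⟨_, ⟨x, hx, rfl⟩, rfl⟩
    exact ⟨_, subset_closure ⟨x, hx, rfl⟩, by rw [← Points.map_comp, hm₂, Points.map_comp]⟩
  obtain ⟨x, hx, hxt⟩ := hmem
  obtain ⟨v, rfl⟩ := surjective_ofPt hTs x
  let W : Set (PrimeSpectrum (B ⊗[R] T)) := PrimeSpectrum.zeroLocus {g₀}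
  have hW : ∀ v : PrimeSpectrum (B ⊗[R] T), Points.ofPt πT v ∈ closure (Points.map m '' Z) → v ∈ W := by
    intro v hv
    have hv' : v ∈ closure ((fun v : PrimeSpectrum (B ⊗[R] T) => Points.ofPt πT v) ⁻¹' (Points.map m '' Z)) :=
      (isOpenQuotientMap_ofPt hTe hTs).isOpenMap.preimage_closure_subset_closure_preimage hv
    refine closure_minimal ?_ (PrimeSpectrum.isClosed_zeroLocus _) hv'
    rintro v₁ ⟨z, hz, hzv⟩
    obtain ⟨q, hq₁, hq₂⟩ := exists_pt_of_isPullback sqμ z v₁ hzv
    have hqJ : J ≤ (q : PrimeSpectrum (B ⊗[R] A)).asIdeal :=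
      (hJ q).2 (show Points.ofPt πA q ∈ Z by rw [hq₁]; exact hz)
    refine Set.singleton_subset_iff.2 ?_
    have : g₀ ∈ ((μ.left q : PrimeSpectrum (B ⊗[R] T))).asIdeal := hqJ hg₀
    rwa [hq₂] at this
  have hg : g₀ ∈ (v : PrimeSpectrum (B ⊗[R] T)).asIdeal := Set.singleton_subset_iff.1 (hW v hx)
  have hvt : (cTo B str T).left v = tσ.left t := by
    apply (Points.schemeHomeo (TA str T)).injective
    show Points.ofScheme _ _ = Points.ofScheme _ _
    rw [← hxt, Points.map_ofPt, hπT₂, ofPt_yon_map]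
  have hcomap : (v : PrimeSpectrum (B ⊗[R] T)).asIdeal.comap
      (Algebra.TensorProduct.includeRight : T →ₐ[R] B ⊗[R] T).toRingHom =
        (t : PrimeSpectrum A).asIdeal.comap T.val.toRingHom := congrArg PrimeSpectrum.asIdeal hvt
  have hmem₂ : g₀ - Algebra.TensorProduct.includeRight a ∈ (v : PrimeSpectrum (B ⊗[R] T)).asIdeal := by
    refine (Ideal.map_le_iff_le_comap.mpr ?_ : Ideal.map _ _ ≤ (v : PrimeSpectrum (B ⊗[R] T)).asIdeal) hga
    rw [hcomap]
  have : (Algebra.TensorProduct.includeRight a : B ⊗[R] T) ∈ (v : PrimeSpectrum (B ⊗[R] T)).asIdeal := by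
    simpa only [sub_sub_cancel] using sub_mem hg hmem₂
  have h3 : a ∈ (v : PrimeSpectrum (B ⊗[R] T)).asIdeal.comap
      (Algebra.TensorProduct.includeRight : T →ₐ[R] B ⊗[R] T).toRingHom := this
  rw [hcomap] at h3
  exact ha h3

end Groth.Agent.SpVal61
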