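import Groth.Agent.SpVal61.Closed
import Groth.Agent.SpVal61.FiniteType
import Groth.Agent.SpFP87.EtLocInst
import Groth.Agent.SpFP87.LocP
import Groth.Agent.EGA73.DvrPoints
import Mathlib.AlgebraicGeometry.Morphisms.FiniteType

/-!
Universal closedness is tested on schemes of finite type over a chart of the target, and on discrete
valuation rings when the target is locally Noetherian.
-/

universe u

set_option autoImplicit false
set_option backward.isDefEq.respectTransparency false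

open CategoryTheory CategoryTheory.Limits AlgebraicGeometry Topology
open AlgSp Groth.Agent.SpFP87 Groth.Agent.SpPts86

namespace Groth.Agent.SpVal61

variable {S : Scheme.{u}} {X Y : Sp S}

theorem isUnivClosedMor_of_affineOpen_test (hX : IsAlgSpace X) (hY : IsAlgSpace Y) {f : X ⟶ Y}
    (hq : IsQuasiCompactMor f) {V : Over S} {p : (yon S).obj V ⟶ Y} (hp : RepWith @Etale p)
    (hps : RepWith @Surjective p)
    (h : ∀ (V₀ : V.left.Opens) (hV₀ : IsAffineOpen V₀) (A : Type u) [CommRing A] [Algebra Γ(V.left, V₀) A]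
      [Algebra.FiniteType Γ(V.left, V₀) A] (φ : TA (hV₀.fromSpec ≫ V.hom) A ⟶ V),
      φ.left = Spec.map (CommRingCat.ofHom (algebraMap Γ(V.left, V₀) A)) ≫ hV₀.fromSpec →
      ∀ (Q : Sp S) (fst : Q ⟶ X) (snd : Q ⟶ (yon S).obj (TA (hV₀.fromSpec ≫ V.hom) A)),
        IsPullback fst snd f ((yon S).map φ ≫ p) → IsClosedMap (Points.map snd)) :
    IsUnivClosedMor f := by
  have sqV := IsPullback.of_hasPullback f p
  let PV := pullback f p
  let pV : PV ⟶ (yon S).obj V := pullback.snd f p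
  have hPV : IsAlgSpace PV := isAlgSpace_of_isPullback sqV hX (IsAlgSpace.yon_obj _) hY.diag
  refine univSp_of_etale_cover (fun _ _ _ _ a c p' q sq hc hq' => isClosedMap_of_baseChange sq hc hq') hp hps
    sqV (isUnivClosedMor_of_affine fun T hT g Q q₁ q₂ sq Z hZ => ?_)
  obtain ⟨c, rfl⟩ := (yon S).map_surjective g
  refine isOpen_compl_iff.1 (isOpen_iff_forall_mem_open.2 fun y hy => ?_)
  obtain ⟨t, rfl⟩ := (Points.schemeHomeo T).surjective y
  obtain ⟨_, ⟨V₀, hV₀, rfl⟩, htV, -⟩ :=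
    V.left.isBasis_affineOpens.exists_subset_of_mem_open (Set.mem_univ (c.left t)) isOpen_univ
  obtain ⟨_, ⟨T₀, hT₀, rfl⟩, htT, hT₀V⟩ :=
    T.left.isBasis_affineOpens.exists_subset_of_mem_open (show t ∈ c.left ⁻¹' (V₀ : Set V.left) from htV)
      (V₀.2.preimage c.left.continuous)
  replace hV₀ : IsAffineOpen V₀ := hV₀
  replace hT₀ : IsAffineOpen T₀ := hT₀
  let R := Γ(V.left, V₀)
  let A := Γ(T.left, T₀)
  algebraize [(c.left.appLE V₀ T₀ hT₀V).hom]
  let str : Spec (CommRingCat.of R) ⟶ S := hV₀.fromSpec ≫ V.hom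
  let j : Over.mk str ⟶ V := Over.homMk hV₀.fromSpec rfl
  let i : TA str A ⟶ T := Over.homMk hT₀.fromSpec (by
    show hT₀.fromSpec ≫ T.hom = Spec.map _ ≫ hV₀.fromSpec ≫ V.hom
    rw [← Over.w c, ← Category.assoc, ← hV₀.SpecMap_appLE_fromSpec c.left hT₀ hT₀V, Category.assoc]
    rfl)
  have hic : i ≫ c = aTo str A ≫ j := Over.OverMorphism.ext (hV₀.SpecMap_appLE_fromSpec c.left hT₀ hT₀V).symm
  have sqR := IsPullback.of_hasPullback pV ((yon S).map j)
  let PR := pullback pV ((yon S).map j)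
  let pR : PR ⟶ (yon S).obj (Over.mk str) := pullback.snd _ _
  have hPR : IsAlgSpace PR :=
    isAlgSpace_of_isPullback sqR hPV (IsAlgSpace.yon_obj _) (IsAlgSpace.yon_obj V).diag
  have : CompactSpace ↥(Over.mk str).left := inferInstanceAs (CompactSpace (PrimeSpectrum R))
  have := compactSpace_points_yon (Over.mk str)
  have : CompactSpace (Points PR) :=
    compactSpace_of_isQuasiCompactMor hq (IsAlgSpace.yon_obj (Over.mk str)) (sqR.paste_horiz sqV)
  obtain ⟨U, π₀, hU, hπ₀, hπ₀s⟩ := exists_affine_chart_of_compactSpace hPR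
  obtain ⟨u₀, hu₀⟩ := (yon S).map_surjective (π₀ ≫ pR)
  let B := Γ(U.left, ⊤)
  let φB : CommRingCat.of R ⟶ B := Spec.preimage (U.left.isoSpec.inv ≫ u₀.left)
  have hφB : Spec.map φB = U.left.isoSpec.inv ≫ u₀.left := Spec.map_preimage _
  algebraize [φB.hom]
  let eU : TA str B ≅ U := Over.isoMk U.left.isoSpec.symm (by
    show U.left.isoSpec.inv ≫ U.hom = Spec.map φB ≫ str
    rw [hφB, Category.assoc]
    exact congrArg (U.left.isoSpec.inv ≫ ·) (Over.w u₀).symm)
  let π : (yon S).obj (TA str B) ⟶ PR := (yon S).map eU.hom ≫ π₀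
  have hπ : RepWith @Etale π :=
    (MorphismProperty.cancel_left_of_respectsIso (RepWith (@Etale : MorphismProperty Scheme.{u})) _ _).2 hπ₀
  have hπs : RepWith @Surjective π :=
    (MorphismProperty.cancel_left_of_respectsIso (RepWith (@Surjective : MorphismProperty Scheme.{u})) _ _).2 hπ₀s
  have hπc : π ≫ pR = (yon S).map (aTo str B) := by
    rw [Category.assoc, ← hu₀, ← Functor.map_comp]
    exact congrArg (yon S).map (Over.OverMorphism.ext hφB.symm)
  let Q₀ := pullback q₂ ((yon S).map i)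
  have sq₀ := IsPullback.of_hasPullback q₂ ((yon S).map i)
  let r₁ : Q₀ ⟶ Q := pullback.fst _ _
  let r₂ : Q₀ ⟶ (yon S).obj (TA str A) := pullback.snd _ _
  have big : IsPullback (r₁ ≫ q₁) r₂ pV ((yon S).map (aTo str A) ≫ (yon S).map j) := by
    rw [← Functor.map_comp, ← hic, Functor.map_comp]
    exact sq₀.paste_horiz sq
  let l : Q₀ ⟶ PR := sqR.lift (r₁ ≫ q₁) (r₂ ≫ (yon S).map (aTo str A)) (by rw [big.w, Category.assoc])
  have hsq : IsPullback l r₂ pR ((yon S).map (aTo str A)) :=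
    IsPullback.of_right (by rw [sqR.lift_fst]; exact big) (sqR.lift_snd _ _ _) sqR
  have hcl : IsClosedMap (Points.map r₂) := by
    refine isClosedMap_of_fg hπ hπs hπc (fun T' hT' Q' s₁ s₂ sq' => ?_) hsq
    have : Algebra.FiniteType R T' := (Subalgebra.fg_iff_finiteType T').1 hT'
    refine h V₀ hV₀ T' (aTo str T' ≫ j) ?_ Q'
      (s₁ ≫ pullback.fst pV ((yon S).map j) ≫ pullback.fst f p) s₂ ?_
    · rfl
    · rw [Functor.map_comp, Category.assoc]
      exact sq'.paste_horiz (sqR.paste_horiz sqV)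
  have hpre := preimage_map_image sq₀ Z
  obtain ⟨t₀, ht₀⟩ : t ∈ Set.range hT₀.fromSpec := by rw [hT₀.range_fromSpec]; exact htT
  have hO : IsOpen (Points.ofPt ((yon S).map i) ⁻¹' (Points.map q₂ '' Z)ᶜ) := by
    rw [ofPt_eq_comp, Set.preimage_comp, Set.preimage_compl, hpre]
    exact (hcl _ (hZ.preimage (Points.continuous_map _))).isOpen_compl.preimage
      (Points.schemeHomeo (TA str A)).continuous
  refine ⟨Points.schemeHomeo T '' (hT₀.fromSpec '' (Points.ofPt ((yon S).map i) ⁻¹' (Points.map q₂ '' Z)ᶜ)),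
    ?_, (Points.schemeHomeo T).isOpenMap _ (hT₀.fromSpec.isOpenEmbedding.isOpenMap _ hO),
    ⟨t, ⟨t₀, ?_, ht₀⟩, rfl⟩⟩
  · rintro _ ⟨_, ⟨s, hs, rfl⟩, rfl⟩
    have hs' : Points.ofPt ((yon S).map i) s ∈ (Points.map q₂ '' Z)ᶜ := hs
    rwa [ofPt_yon_map] at hs'
  · show Points.ofPt ((yon S).map i) t₀ ∈ (Points.map q₂ '' Z)ᶜ
    rw [ofPt_yon_map, show i.left t₀ = t from ht₀]
    exact hy

theorem isUnivClosedMor_of_finiteType_test (hX : IsAlgSpace X) (hY : IsAlgSpace Y) {f : X ⟶ Y}
    (hq : IsQuasiCompactMor f) {V : Over S} {p : (yon S).obj V ⟶ Y} (hp : RepWith @Etale p)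
    (hps : RepWith @Surjective p)
    (h : ∀ (T : Over S), IsAffine T.left → ∀ (φ : T ⟶ V), LocallyOfFiniteType φ.left →
      ∀ (Q : Sp S) (fst : Q ⟶ X) (snd : Q ⟶ (yon S).obj T),
        IsPullback fst snd f ((yon S).map φ ≫ p) → IsClosedMap (Points.map snd)) :
    IsUnivClosedMor f :=
  isUnivClosedMor_of_affineOpen_test hX hY hq hp hps fun V₀ hV₀ A _ _ hA φ hφ Q fst snd sq =>
    h _ (inferInstanceAs (IsAffine (Spec _))) φ (by
      have : LocallyOfFiniteType (Spec.map (CommRingCat.ofHom (algebraMap Γ(V.left, V₀) A))) :=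
        HasRingHomProperty.Spec_iff.2 ((RingHom.finiteType_algebraMap).2 hA)
      rw [hφ]
      infer_instance) Q fst snd sq

/-- The discrete valuation ring criterion of universal closedness. -/
theorem isUnivClosedMor_of_dvr (hX : IsAlgSpace X) (hY : IsAlgSpace Y) {f : X ⟶ Y}
    (hft : IsFiniteTypeMor f) (hN : IsLocNoethSp Y)
    (hv : ∀ sq : ValSq f, IsDiscreteValuationRing sq.A → sq.HasLiftExt) : IsUnivClosedMor f := by
  obtain ⟨V, p, hp, hps, hV⟩ := hN
  refine isUnivClosedMor_of_finiteType_test hX hY hft.2 hp hps fun T hT φ hφ Q fst snd sqQ => ?_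
  have : CompactSpace ↥T.left := inferInstance
  have := compactSpace_points_yon T
  have := compactSpace_of_isQuasiCompactMor hft.2 (IsAlgSpace.yon_obj T) sqQ
  have : IsLocallyNoetherian T.left := LocallyOfFiniteType.isLocallyNoetherian φ.left
  have hQ := isAlgSpace_of_isPullback sqQ hX (IsAlgSpace.yon_obj _) hY.diag
  have hsnd : LocP @LocallyOfFiniteType snd := locP_baseChange sqQ hX hY (IsAlgSpace.yon_obj _) hft.1
  refine isClosedMap_of_specializes hQ snd fun U π c hc hπ z t ht => ?_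
  by_cases he : t = c.left z
  · exact ⟨Points.ofPt π z, specializes_rfl, by rw [Points.map_ofPt, ← hc, ofPt_yon_map, he]⟩
  have : LocallyOfFiniteType c.left :=
    hsnd π (𝟙 _) c hπ (repWith_id _ T) (by rw [Category.comp_id, hc])
  obtain ⟨W, k, hW, hkt, hk⟩ := EGA73.exists_dvr_hom c.left z t ht he
  refine exists_specializes_of_lifts sqQ hc W hkt hk fun sq h => hv sq (h hW)

end Groth.Agent.SpVal61
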